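import Groth.Agent.H29Ref.DivClass
import Groth.Agent.H29Ref.BigOpen
import Groth.Agent.H29Ref.StalkRestrict
import Groth.Agent.H17.ConsModModels
import Groth.Agent.H17.StalkTransfer
import Groth.Agent.H22Alg.FlatSurj
import Groth.Agent.H8Props.Reduced
import Groth.Agent.H23Para.Local
import Groth.Agent.H1CAlg.Serre

/-!
# Rank one reflexive modules on the spectrum of a local ring
-/

set_option autoImplicit false
set_option linter.style.haveILetI false
universe u

open CategoryTheory CategoryTheory.Limits AlgebraicGeometry TopologicalSpace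
open Groth.Agent.H29Ref Groth.Agent.H8Props.FunDescent

namespace Groth.Agent.H25Div

variable {X Y : Scheme.{u}}

/-- Semilinear comparison of stalks under a morphism with bijective stalk map. -/
theorem exists_stalk_equiv (f : Y ⟶ X) (y : Y) (hf : IsIso (f.stalkMap y)) (M : X.Modules) :
    ∃ (σ : X.presheaf.stalk (f.base y) ≃+* Y.presheaf.stalk y)
      (φ : M.presheaf.stalk (f.base y) ≃+ ((Scheme.Modules.pullback f).obj M).presheaf.stalk y),
      ∀ r m, φ (r • m) = σ r • φ m := by
  letI := H06Mod.stalkAlgebra f y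
  have hb : Function.Bijective (Algebra.linearMap (X.presheaf.stalk (f.base y)) (Y.presheaf.stalk y)) :=
    ConcreteCategory.bijective_of_isIso (f.stalkMap y)
  let e : M.presheaf.stalk (f.base y) ≃ₗ[X.presheaf.stalk (f.base y)]
      TensorProduct (X.presheaf.stalk (f.base y)) (Y.presheaf.stalk y) (M.presheaf.stalk (f.base y)) :=
    (TensorProduct.lid _ _).symm ≪≫ₗ LinearEquiv.rTensor _
      (LinearEquiv.ofBijective (Algebra.linearMap (X.presheaf.stalk (f.base y)) (Y.presheaf.stalk y)) hb)
  have : ⇑(H06Mod.pullStalk f M y) = H06Mod.pullStalkLin f M y ∘ e := funext fun m => by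
    simp [e, H06Mod.pullStalkLin_tmul]
  have hφ : Function.Bijective (H06Mod.pullStalk f M y) := by
    rw [this]
    exact (H06Mod.pullStalkLin_bijective f M y).comp e.bijective
  haveI := hf
  exact ⟨(asIso (f.stalkMap y)).commRingCatIsoToRingEquiv,
    AddEquiv.ofBijective (H06Mod.pullStalk f M y).hom hφ,
    fun r m => H06Mod.pullStalk_smul f M y r m⟩

theorem isIso_stalkMap_fromSpecStalk (x : X) (y : Spec (X.presheaf.stalk x)) :
    IsIso ((X.fromSpecStalk x).stalkMap y) :=
  (ConcreteCategory.isIso_iff_bijective _).mpr (H8Props.bijective_stalkMap_of_flat _ _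
    (haveI := H22Alg.flat_fromSpecStalk X x; Flat.stalkMap _ _))

/-- A basis transported along a semilinear equivalence. -/
theorem exists_basis_of_semilinear {R S : Type u} [CommRing R] [CommRing S] {M N : Type u} [AddCommGroup M]
    [Module R M] [AddCommGroup N] [Module S N] (σ : R ≃+* S) (e : M ≃+ N)
    (he : ∀ (r : R) (m : M), e (r • m) = σ r • e m) {ι : Type*} [Fintype ι] (b : Module.Basis ι R M) :
    Nonempty (Module.Basis ι S N) := by
  have hsum : ∀ c : ι → S, ∑ i, c i • e (b i) = e (∑ i, σ.symm (c i) • b i) := fun c => by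
    rw [map_sum]
    exact Finset.sum_congr rfl fun i _ => by rw [he, σ.apply_symm_apply]
  refine ⟨Module.Basis.mk (v := fun i => e (b i)) (Fintype.linearIndependent_iff.2 fun c hc i => ?_) ?_⟩
  · rw [hsum, ← map_zero e, e.injective.eq_iff] at hc
    exact (map_eq_zero_iff σ.symm σ.symm.injective).1 (Fintype.linearIndependent_iff.1 b.linearIndependent _ hc i)
  · rintro n -
    obtain ⟨m, rfl⟩ := e.surjective n
    rw [Submodule.mem_span_range_iff_exists_fun]
    refine ⟨fun i => σ (b.repr m i), ?_⟩
    rw [hsum]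
    simp only [σ.symm_apply_apply, b.sum_repr]

theorem free_of_semilinear {R S : Type u} [CommRing R] [CommRing S] {M N : Type u} [AddCommGroup M]
    [Module R M] [AddCommGroup N] [Module S N] (σ : R ≃+* S) (e : M ≃+ N)
    (he : ∀ (r : R) (m : M), e (r • m) = σ r • e m) [Module.Free S N] [Module.Finite S N] :
    Module.Free R M := by
  classical
  have he' : ∀ (s : S) (n : N), e.symm (s • n) = σ.symm s • e.symm n := fun s n => e.injective (by
    rw [he, e.apply_symm_apply, σ.apply_symm_apply, e.apply_symm_apply])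
  letI := Fintype.ofFinite (Module.Free.ChooseBasisIndex S N)
  obtain ⟨b⟩ := exists_basis_of_semilinear σ.symm e.symm he' (Module.Free.chooseBasis S N)
  exact Module.Free.of_basis b

/-- The spectrum of a local ring of a normal integral scheme is normal. -/
theorem isNormalScheme_specStalk (hX : Pi1.IsNormalScheme X) (x : X) :
    Pi1.IsNormalScheme (Spec (X.presheaf.stalk x)) := fun y => by
  haveI := isIso_stalkMap_fromSpecStalk x y
  let σ := (asIso ((X.fromSpecStalk x).stalkMap y)).commRingCatIsoToRingEquiv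
  haveI := (hX ((X.fromSpecStalk x).base y)).1
  haveI := (hX ((X.fromSpecStalk x).base y)).2
  exact ⟨σ.symm.toMulEquiv.isDomain _, IsIntegrallyClosed.of_equiv σ⟩

/-- The pullback of a rank one reflexive module to the spectrum of a local ring. -/
theorem isRef1_pullback_specStalk [IsIntegral X] [IsLocallyNoetherian X]
    (x : X) [IsDomain (X.presheaf.stalk x)] {F : X.Modules} (hF : RefHull.IsRef1 F) :
    RefHull.IsRef1 ((Scheme.Modules.pullback (X.fromSpecStalk x)).obj F) := by
  haveI : IsNoetherianRing (X.presheaf.stalk x) := inferInstance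
  have hG := H17.ConsProp.isCoh_pullback (X.fromSpecStalk x) hF.1
  refine ⟨hG, (isReflexive_iff _ hG).mpr fun y => ?_, genInvertible_of_stalkFree _ hG ?_⟩
  · obtain ⟨σ, φ, h⟩ := exists_stalk_equiv (X.fromSpecStalk x) y (isIso_stalkMap_fromSpecStalk x y) F
    haveI : Module.IsReflexive (X.presheaf.stalk ((X.fromSpecStalk x).base y))
        (F.presheaf.stalk ((X.fromSpecStalk x).base y)) := (isReflexive_iff F hF.1).1 hF.2.1 _
    exact isReflexive_of_semilinear σ.symm φ.symm fun s n => φ.injective (by
      rw [h, φ.apply_symm_apply, σ.apply_symm_apply, φ.apply_symm_apply])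
  · set y := genericPoint (Spec (X.presheaf.stalk x))
    obtain ⟨σ, φ, h⟩ := exists_stalk_equiv (X.fromSpecStalk x) y (isIso_stalkMap_fromSpecStalk x y) F
    have hgen : (X.fromSpecStalk x).base y = genericPoint X := by
      have hr : genericPoint X ∈ Set.range (X.fromSpecStalk x) := by
        rw [Scheme.range_fromSpecStalk]
        exact (genericPoint_spec X).specializes (Set.mem_univ x)
      obtain ⟨p, hp⟩ := hr
      exact ((genericPoint_spec X).specializes (Set.mem_univ _)).antisymm
        (hp ▸ ((genericPoint_spec (Spec (X.presheaf.stalk x))).specializes (Set.mem_univ p)).map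
          (X.fromSpecStalk x).continuous) |>.eq.symm
    obtain ⟨b⟩ := (hgen ▸ stalkFree_generic F hF.1 hF.2.2 :
      StalkFree F 1 ((X.fromSpecStalk x).base y))
    exact exists_basis_of_semilinear σ φ h b

/-- Over a parafactorial point of depth two, a rank one reflexive module free at the
generizations is free. -/
theorem free_of_parafactorial [IsIntegral X] [IsLocallyNoetherian X] (hX : Pi1.IsNormalScheme X)
    (x : X) {F : X.Modules} (hF : RefHull.IsRef1 F)
    (hd : (2 : WithBot ℕ∞) ≤ ringKrullDim (X.presheaf.stalk x))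
    (hpar : ParaF.IsParafactorialLocalRing (X.presheaf.stalk x))
    (hfree : ∀ z : X, z ⤳ x → z ≠ x → Module.Free (X.presheaf.stalk z) (F.presheaf.stalk z)) :
    Module.Free (X.presheaf.stalk x) (F.presheaf.stalk x) := by
  haveI := (hX x).1
  haveI := (hX x).2
  let A := X.presheaf.stalk x
  let f : Spec A ⟶ X := X.fromSpecStalk x
  let c : Spec A := IsLocalRing.closedPoint A
  let G := (Scheme.Modules.pullback f).obj F
  let U : (Spec A).Opens := FEt.puncturedSpec A
  have hN := isNormalScheme_specStalk hX x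
  have hG := isRef1_pullback_specStalk x hF
  have hc : ∀ y : Spec A, y ∉ U → y = c := fun y hy => not_not.1 hy
  have hdc : ∀ y : Spec A, y ∉ U → (2 : ℕ∞) ≤ LocCoh.depth ((Spec A).presheaf.stalk y) ((Spec A).presheaf.stalk y) :=
    fun y hy => by
      obtain rfl := hc y hy
      haveI := (hN c).1
      haveI := (hN c).2
      refine H1CAlg.depth_ge_two_of_isIntegrallyClosed ?_
      haveI := isIso_stalkMap_fromSpecStalk x c
      rw [← ringKrullDim_eq_of_ringEquiv (asIso (f.stalkMap c)).commRingCatIsoToRingEquiv]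
      rwa [show f.base c = x from Scheme.fromSpecStalk_closedPoint]
  have hηU : genericPoint (Spec A) ∈ U := genericPoint_mem_of_depth U hdc
  haveI : Nonempty U := ⟨⟨_, hηU⟩⟩
  -- `G` is free of rank one at the points of the punctured spectrum
  have hη := stalkFree_generic G hG.1 hG.2.2
  have hnear : ∀ y ∈ U, ∃ n, FlatFun.IsFreeOfRankNear G n y := fun y hy => by
    obtain ⟨σ, φ, h⟩ := exists_stalk_equiv f y (isIso_stalkMap_fromSpecStalk x y) F
    have hzx : f.base y ⤳ x := by
      have : f.base y ∈ Set.range (X.fromSpecStalk x) := Set.mem_range_self y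
      rwa [Scheme.range_fromSpecStalk] at this
    have hne : f.base y ≠ x := fun he => hy (show y = c from
      (X.fromSpecStalk x).isEmbedding.injective (he.trans Scheme.fromSpecStalk_closedPoint.symm))
    haveI := hfree _ hzx hne
    haveI := H29Ref.finite_stalk F hF.1.2 (f.base y)
    letI := Fintype.ofFinite (Module.Free.ChooseBasisIndex (X.presheaf.stalk (f.base y)) (F.presheaf.stalk (f.base y)))
    obtain ⟨b⟩ := exists_basis_of_semilinear σ φ h (Module.Free.chooseBasis _ _)
    haveI := Module.Free.of_basis b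
    exact ⟨1, isFreeOfRankNear_of_stalkFree_of_isFP G (H10Coh.isFP_of_isCoh G hG.1)
      (stalkFree_one_of_free G hG.1 hη y)⟩
  have hLinv : PicF.IsInvertible (G.restrict U.ι) := by
    intro y
    obtain ⟨n, hn⟩ := hnear y.1 y.2
    obtain rfl : n = 1 := by
      obtain ⟨V, hyV, hV⟩ := hn
      exact stalkFree_unique hη (stalkFree_of_isFreeOfRankNear G hG.1.1 (p := n)
        (x := genericPoint (Spec A)) ⟨V, genericPoint_mem hyV, hV⟩)
    obtain ⟨V, hyV, ⟨e⟩⟩ := exists_iso_of_isFreeOfRankNear_one G y.1 hn
    refine ⟨U.ι ⁻¹ᵁ V, hyV, ⟨?_⟩⟩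
    let g : ((U.ι ⁻¹ᵁ V : (U : Scheme.{u}).Opens) : Scheme.{u}) ⟶ (V : Scheme.{u}) :=
      IsOpenImmersion.lift V.ι ((U.ι ⁻¹ᵁ V).ι ≫ U.ι) (by
        rw [Scheme.Opens.range_ι]; rintro _ ⟨w, rfl⟩; exact w.2)
    have hg : g ≫ V.ι = (U.ι ⁻¹ᵁ V).ι ≫ U.ι := IsOpenImmersion.lift_fac _ _ _
    haveI : IsOpenImmersion g := by
      have : IsOpenImmersion (g ≫ V.ι) := by rw [hg]; infer_instance
      exact IsOpenImmersion.of_comp g V.ι
    exact ((Scheme.Modules.restrictFunctorComp (U.ι ⁻¹ᵁ V).ι U.ι).app G).symm ≪≫
      (Scheme.Modules.restrictFunctorCongr hg.symm).app G ≪≫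
      (Scheme.Modules.restrictFunctorComp g V.ι).app G ≪≫
      (Scheme.Modules.restrictFunctor g).mapIso e ≪≫ Scheme.Modules.restrictUnitIso g
  obtain ⟨e⟩ := ((H23Para.isParafactorialLocalRing_iff (A := A)).1 hpar).2 _ hLinv
  haveI := isIso_unit_of_depth_two U hdc G hG.1 hG.2.1
  haveI := isIso_unit_of_depth_two U hdc (Coh.structureModule (Spec A)) isRef1_structureModule.1
    isRef1_structureModule.2.1
  let E : G ≅ Coh.structureModule (Spec A) :=
    asIso ((Scheme.Modules.restrictAdjunction U.ι).unit.app G) ≪≫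
      (Scheme.Modules.pushforward U.ι).mapIso (e ≪≫ (Scheme.Modules.restrictUnitIso U.ι).symm) ≪≫
      (asIso ((Scheme.Modules.restrictAdjunction U.ι).unit.app (Coh.structureModule (Spec A)))).symm
  have hb := (isIso_iff_bijective_stalk E.hom).mp inferInstance c
  let eG : G.presheaf.stalk c ≃ₗ[(Spec A).presheaf.stalk c] (Spec A).presheaf.stalk c :=
    (LinearEquiv.ofBijective (RefHull.stalkMapₗ E.hom c) hb).trans
      (LinearEquiv.ofBijective (LinearMap.toSpanSingleton ((Spec A).presheaf.stalk c) _ (oneStalk c))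
        (bijective_smul_oneStalk c)).symm
  haveI : Module.Free ((Spec A).presheaf.stalk c) (G.presheaf.stalk c) := Module.Free.of_equiv eG.symm
  haveI : Module.Finite ((Spec A).presheaf.stalk c) (G.presheaf.stalk c) := Module.Finite.equiv eG.symm
  obtain ⟨σ, φ, h⟩ := exists_stalk_equiv f c (isIso_stalkMap_fromSpecStalk x c) F
  have hfr := free_of_semilinear σ φ h
  exact (show f.base c = x from Scheme.fromSpecStalk_closedPoint) ▸ hfr

end Groth.Agent.H25Div
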